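import Cfsg.Agent.H388.CoMat.Chk
import Cfsg.Agent.H419.Spor.Co1
import Cfsg.Agent.H387.VO.Main

/-!
# S4987, the row `Co1`, `p = 5` and `p = 7`

The exterior square of the 24-dimensional character is irreducible of degree 276 (helper419); it vanishes at
explicit elements of orders 35, 15 and 21.
-/

set_option autoImplicit false

namespace Cfsg.Agent.H388.VO

open Cfsg Cfsg.Agent.H713 Cfsg.Agent.H419.LeechIrr Cfsg.Agent.H419.Spor.Co1 Cfsg.Agent.H388.CoMat
  Cfsg.Agent.Co2Type.Mono Cfsg.Agent.H419.Row Cfsg.Agent.H419.Count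
open Cfsg.Agent.SporadicStructure.Co0Matrix (Ok mk)

universe u

theorem psi_zero {g : Co0} (a : ℤ) (h1 : tr8 g = 8 * a) (h2 : tr8 (g * g) = 8 * (a * a)) : psi g = 0 := by
  have e1 : chi g = a := by
    show (tr8 g : ℂ) / 8 = a
    rw [h1]
    push_cast
    ring
  have e2 : chi (g * g) = a * a := by
    show (tr8 (g * g) : ℂ) / 8 = a * a
    rw [h2]
    push_cast
    ring
  rw [psi, e1, e2]
  ring

theorem vz_psi {g : Co0} (h : psi g = 0) : VZ Spor.Co1 (CoOneType.CoOneE.pr g) := by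
  obtain ⟨θ, hθ⟩ := exists_irr h
  exact vz_of_inner ⟨θ, by rw [hθ, h]⟩ (inner_of_out Cfsg.Agent.S2069.result)

theorem vz_mat {R C : List (List ℤ)} (h : Ok R C) (a : ℤ) (h1 : trL R 1 = 8 * a) (h2 : trL R 2 = 8 * (a * a)) :
    VZ Spor.Co1 (CoOneType.CoOneE.pr (mk h)) := by
  apply vz_psi
  apply psi_zero a
  · rw [← h1, ← tr8_pow (CoOneType.CoEval.rep_mk h) 1, pow_one]
  · rw [← h2, ← tr8_pow (CoOneType.CoEval.rep_mk h) 2, pow_two]

theorem vz35 : VZ Spor.Co1 (CoOneType.CoOneE.pr g35) := vz_mat ok35 1 tr35.1 tr35.2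

theorem vz15 : VZ Spor.Co1 (CoOneType.CoOneE.pr g15) := vz_mat ok15 1 tr15.1 tr15.2

theorem vz21 : VZ Spor.Co1 (CoOneType.CoOneE.pr g21) := vz_mat ok21 0 tr21.1 tr21.2

theorem o35 : orderOf (CoOneType.CoOneE.pr g35) = 35 := order_g35

theorem o15 : orderOf (CoOneType.CoOneE.pr g15) = 15 := order_g15

theorem o21 : orderOf (CoOneType.CoOneE.pr g21) = 21 := order_g21

theorem two_co1_5 {K : Type u} [Group K] (h : Spor.IsoCo1 K) : H387.VO.TwoVan 5 K := by
  obtain ⟨e⟩ := h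
  refine H387.VO.TwoVan.mulEquiv ?_ e.symm
  exact H387.VO.TwoVan.of_order (by rw [o35]; norm_num) (by rw [o15]; norm_num) vz35 vz15
    (by rw [o35, o15]; norm_num)

theorem two_co1_7 {K : Type u} [Group K] (h : Spor.IsoCo1 K) : H387.VO.TwoVan 7 K := by
  obtain ⟨e⟩ := h
  refine H387.VO.TwoVan.mulEquiv ?_ e.symm
  exact H387.VO.TwoVan.of_order (by rw [o35]; norm_num) (by rw [o21]; norm_num) vz35 vz21
    (by rw [o35, o21]; norm_num)

end Cfsg.Agent.H388.VO
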